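import Mathlib
import Cfsg.Prelude.Def_Solvable
import Cfsg.Agent.S0081
import Cfsg.Agent.Lib.PSolvable.Omega
import Cfsg.Agent.Lib.Layer.CharPSubnormal
import Cfsg.Agent.Lib.RealOdd.Group

/-!
A Sylow subgroup with abelianization of order `p²` contains an element whose centralizer has
`p`-part `p²`.
-/

set_option autoImplicit false
set_option linter.unusedSectionVars false
set_option linter.style.haveILetI false

open scoped commutatorElement

namespace CfsgLib.AbelPSq

variable {G : Type*} [Group G] [Finite G] {p : ℕ} [hp : Fact p.Prime]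

/-- A `p`-group whose abelianization has order at most `p` is cyclic. -/
theorem isCyclic_of_index {Q : Type*} [Group Q] [Finite Q] (hQ : IsPGroup p Q)
    (h : (commutator Q).index ≤ p) : IsCyclic Q := by
  obtain ⟨k, hk⟩ := IsPGroup.iff_card.mp hQ
  obtain ⟨i, -, hi⟩ := (Nat.dvd_prime_pow hp.out).mp (hk ▸ (commutator Q).index_dvd_card)
  have htop : commutator Q ⊔ frattini Q = frattini Q :=
    sup_eq_right.mpr (PSolvable.commutator_le_frattini hQ).1
  rcases i with _ | _ | i
  · have h1 : commutator Q = ⊤ := Subgroup.index_eq_one.mp (by simpa using hi)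
    have h2 : (⊥ : Subgroup Q) = ⊤ := frattini_nongenerating (by
      rw [bot_sup_eq, ← htop, h1, top_sup_eq])
    haveI : Subsingleton Q := Subgroup.subsingleton_iff.mp (subsingleton_of_bot_eq_top h2)
    exact isCyclic_of_subsingleton
  · rw [zero_add, pow_one] at hi
    obtain ⟨g, hg⟩ : ∃ g, g ∉ commutator Q := by
      by_contra hc
      push Not at hc
      rw [show commutator Q = ⊤ from eq_top_iff.mpr fun x _ => hc x, Subgroup.index_top] at hi
      exact hp.out.ne_one hi.symm
    have hsup : Subgroup.zpowers g ⊔ commutator Q = ⊤ := by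
      rw [← Subgroup.index_eq_one]
      refine ((Nat.dvd_prime hp.out).mp (hi ▸ Subgroup.index_dvd_of_le
        (le_sup_right : commutator Q ≤ Subgroup.zpowers g ⊔ commutator Q))).resolve_right fun he => ?_
      have := Subgroup.relIndex_mul_index
        (le_sup_right : commutator Q ≤ Subgroup.zpowers g ⊔ commutator Q)
      rw [he, hi] at this
      have hle : Subgroup.zpowers g ⊔ commutator Q ≤ commutator Q :=
        Subgroup.relIndex_eq_one.mp (by
          have := Nat.eq_of_mul_eq_mul_right hp.out.pos (this.trans (one_mul p).symm)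
          exact this)
      exact hg (hle (Subgroup.mem_sup_left (Subgroup.mem_zpowers g)))
    refine isCyclic_iff_exists_zpowers_eq_top.mpr ⟨g, frattini_nongenerating (eq_top_iff.mpr ?_)⟩
    rw [← hsup]
    exact sup_le_sup le_rfl (PSolvable.commutator_le_frattini hQ).1
  · exfalso
    have : p ^ 2 ≤ p ^ (i + 1 + 1) := Nat.pow_le_pow_right hp.out.pos (by omega)
    have := hp.out.two_le
    nlinarith [hi ▸ h]

/-- With abelianization of order `p²`, a normal subgroup outside the derived group has index `≤ p`. -/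
theorem index_le_of_not_le {Q : Type*} [Group Q] [Finite Q] (hQ : IsPGroup p Q)
    (hd : (commutator Q).index = p ^ 2) (M : Subgroup Q) [M.Normal] (hM : ¬ M ≤ commutator Q) :
    M.index ≤ p ∧ commutator Q ≤ M := by
  have hC : (commutator (Q ⧸ M)).index = (commutator Q ⊔ M).index := by
    have he : (commutator Q).map (QuotientGroup.mk' M) = commutator (Q ⧸ M) := by
      rw [commutator_def, Subgroup.map_commutator, ← MonoidHom.range_eq_map,
        QuotientGroup.range_mk', ← commutator_def]
    rw [← he, Subgroup.index_map, QuotientGroup.ker_mk', QuotientGroup.range_mk', Subgroup.index_top,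
      mul_one]
  have hlt : (commutator Q ⊔ M).index ≤ p := by
    obtain ⟨i, hi, he⟩ := (Nat.dvd_prime_pow hp.out).mp
      (hd ▸ Subgroup.index_dvd_of_le (le_sup_left : commutator Q ≤ commutator Q ⊔ M))
    rw [he]
    refine le_of_le_of_eq (Nat.pow_le_pow_right hp.out.pos (show i ≤ 1 from ?_)) (pow_one p)
    by_contra h1
    have hi2 : i = 2 := by omega
    have h2 := Subgroup.relIndex_mul_index (le_sup_left : commutator Q ≤ commutator Q ⊔ M)
    rw [hd, he, hi2] at h2
    have h3 : (commutator Q ⊔ M) ≤ commutator Q := Subgroup.relIndex_eq_one.mp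
      (Nat.eq_of_mul_eq_mul_right (pow_pos hp.out.pos 2) (h2.trans (one_mul _).symm))
    exact hM (le_sup_right.trans h3)
  haveI := isCyclic_of_index (hQ.to_quotient M) (hC ▸ hlt)
  haveI := (IsCyclic.isMulCommutative : IsMulCommutative (Q ⧸ M))
  have hle : commutator Q ≤ M := by
    rw [commutator_def, Subgroup.commutator_le]
    intro a _ b _
    rw [← QuotientGroup.eq_one_iff]
    show QuotientGroup.mk' M ⁅a, b⁆ = 1
    rw [map_commutatorElement, commutatorElement_eq_one_iff_commute]
    exact IsMulCommutative.is_comm.comm _ _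
  exact ⟨by rwa [sup_eq_right.mpr hle] at hlt, hle⟩

/-- `P = R⟨y⟩`: the derived group lies in any subgroup containing `R'` and `[R, y]`. -/
theorem commutator_le_of_index {Q : Type*} [Group Q] [Finite Q] (R M : Subgroup Q) [R.Normal]
    (hR : R.index = p) {y : Q} (hy : y ∉ R) (hMR : M ≤ R)
    (h1 : ∀ a ∈ R, ∀ b ∈ R, a * b * a⁻¹ * b⁻¹ ∈ M) (h2 : ∀ a ∈ R, a * y * a⁻¹ * y⁻¹ ∈ M)
    (h3 : ∀ m ∈ M, y * m * y⁻¹ ∈ M) : commutator Q ≤ M := by
  have hgen : ∀ x : Q, ∃ r ∈ R, ∃ k : ℕ, x = r * y ^ k := by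
    intro x
    haveI : Fact (Nat.card (Q ⧸ R)).Prime := ⟨by rw [← Subgroup.index_eq_card, hR]; exact hp.out⟩
    have hz : (QuotientGroup.mk x : Q ⧸ R) ∈ Submonoid.powers (QuotientGroup.mk y : Q ⧸ R) := by
      rw [mem_powers_iff_mem_zpowers,
        zpowers_eq_top_of_prime_card (p := Nat.card (Q ⧸ R)) rfl
          (by rwa [Ne, QuotientGroup.eq_one_iff])]
      trivial
    obtain ⟨k, hk⟩ := hz
    refine ⟨x * (y ^ k)⁻¹, ?_, k, by group⟩
    rw [← QuotientGroup.eq_one_iff, QuotientGroup.mk_mul, QuotientGroup.mk_inv,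
      QuotientGroup.mk_pow, ← hk, mul_inv_cancel]
  have hnR : ∀ r ∈ R, ∀ m ∈ M, r * m * r⁻¹ ∈ M := fun r hr m hm => by
    have := mul_mem (h1 r hr m (hMR hm)) hm
    rwa [inv_mul_cancel_right] at this
  have hnk : ∀ (k : ℕ), ∀ m ∈ M, y ^ k * m * (y ^ k)⁻¹ ∈ M := by
    intro k
    induction k with
    | zero => intro m hm; simpa using hm
    | succ k ih =>
      intro m hm
      have := h3 _ (ih m hm)
      rw [pow_succ']
      convert this using 1
      group
  haveI hMn : M.Normal := ⟨fun m hm x => by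
    obtain ⟨r, hr, k, rfl⟩ := hgen x
    have := hnR r hr _ (hnk k m hm)
    convert this using 1
    group⟩
  rw [commutator_def, Subgroup.commutator_le]
  have hc : ∀ a ∈ R, ∀ b ∈ R, Commute (QuotientGroup.mk' M a) (QuotientGroup.mk' M b) := fun a ha b hb => by
    rw [← commutatorElement_eq_one_iff_commute, ← map_commutatorElement]
    exact (QuotientGroup.eq_one_iff _).mpr (h1 a ha b hb)
  have hy' : ∀ a ∈ R, Commute (QuotientGroup.mk' M a) (QuotientGroup.mk' M y) := fun a ha => by
    rw [← commutatorElement_eq_one_iff_commute, ← map_commutatorElement]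
    exact (QuotientGroup.eq_one_iff _).mpr (h2 a ha)
  intro a _ b _
  rw [← QuotientGroup.eq_one_iff]
  show QuotientGroup.mk' M ⁅a, b⁆ = 1
  obtain ⟨r, hr, k, rfl⟩ := hgen a
  obtain ⟨s, hs, l, rfl⟩ := hgen b
  rw [map_commutatorElement, commutatorElement_eq_one_iff_commute, map_mul, map_mul, map_pow,
    map_pow]
  exact Commute.mul_left ((hc r hr s hs).mul_right ((hy' r hr).pow_right l))
    (((hy' s hs).symm.pow_left k).mul_right (Commute.pow_pow (Commute.refl _) k l))

/-- The centralizer of an element outside an abelian maximal subgroup. -/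
theorem centralizer_card {Q : Type*} [Group Q] [Finite Q] (R : Subgroup Q) [R.Normal]
    (hab : ∀ a ∈ R, ∀ b ∈ R, a * b = b * a) (hd : (commutator Q).index = p ^ 2) (hR : R.index = p)
    {y : Q} (hy : y ∉ R) : Nat.card (Subgroup.centralizer ({y} : Set Q)) = p ^ 2 := by
  have hmem : ∀ a ∈ R, a * y * a⁻¹ * y⁻¹ ∈ R := fun a ha => by
    have := mul_mem ha ((inferInstance : R.Normal).conj_mem _ (inv_mem ha) y)
    convert this using 1
    group
  let φ : R →* R :=
    { toFun := fun r => ⟨(r : Q) * y * (r : Q)⁻¹ * y⁻¹, hmem r r.2⟩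
      map_one' := Subtype.ext (by simp)
      map_mul' := fun r s => Subtype.ext (by
        show (r : Q) * s * y * ((r : Q) * s)⁻¹ * y⁻¹
          = (r * y * (r : Q)⁻¹ * y⁻¹) * (s * y * (s : Q)⁻¹ * y⁻¹)
        rw [hab _ (hmem r r.2) _ (hmem s s.2),
          show (r : Q) * s * y * ((r : Q) * s)⁻¹ * y⁻¹
            = r * (s * y * (s : Q)⁻¹ * y⁻¹) * (y * (r : Q)⁻¹ * y⁻¹) by group,
          hab r r.2 _ (hmem s s.2)]
        group) }
  set M := φ.range.map R.subtype with hM
  have hMR : M ≤ R := Subgroup.map_subtype_le _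
  have hge : commutator Q ≤ M := commutator_le_of_index R M hR hy hMR
    (fun a ha b hb => by rw [hab a ha b hb]; simp [mul_assoc])
    (fun a ha => ⟨φ ⟨a, ha⟩, ⟨_, rfl⟩, rfl⟩)
    (by
      rintro _ ⟨_, ⟨r, rfl⟩, rfl⟩
      refine ⟨φ ⟨y * r * y⁻¹, (inferInstance : R.Normal).conj_mem _ r.2 y⟩, ⟨_, rfl⟩, ?_⟩
      show (y * r * y⁻¹) * y * (y * (r : Q) * y⁻¹)⁻¹ * y⁻¹ = y * (r * y * (r : Q)⁻¹ * y⁻¹) * y⁻¹
      group)
  have hle : M ≤ commutator Q := by
    rintro _ ⟨_, ⟨r, rfl⟩, rfl⟩
    rw [commutator_def]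
    exact Subgroup.commutator_mem_commutator (Subgroup.mem_top (r : Q)) (Subgroup.mem_top y)
  have hcM : Nat.card M * p ^ 2 = Nat.card Q := by
    rw [le_antisymm hle hge, ← hd, Subgroup.card_mul_index]
  have hrange : Nat.card φ.range = Nat.card M :=
    (Subgroup.card_map_of_injective R.subtype_injective).symm
  have hRc : Nat.card R * p = Nat.card Q := by rw [← hR, Subgroup.card_mul_index]
  have hker : Nat.card φ.ker = p := by
    have h1 := Subgroup.card_mul_index φ.ker
    rw [Subgroup.index_ker, hrange] at h1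
    have h2 : Nat.card φ.ker * (Nat.card M * p) = p * (Nat.card M * p) := by
      calc Nat.card φ.ker * (Nat.card M * p) = Nat.card φ.ker * Nat.card M * p := by ring
        _ = Nat.card Q := by rw [h1, hRc]
        _ = p * (Nat.card M * p) := by rw [← hcM]; ring
    exact Nat.eq_of_mul_eq_mul_right (Nat.mul_pos Nat.card_pos hp.out.pos) h2
  set C := Subgroup.centralizer ({y} : Set Q)
  have hCR : φ.ker.map R.subtype = R ⊓ C := by
    ext x
    constructor
    · rintro ⟨r, hr, rfl⟩
      refine ⟨r.2, Subgroup.mem_centralizer_singleton_iff.mpr ?_⟩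
      have h := congrArg Subtype.val (MonoidHom.mem_ker.mp hr)
      simp only [φ, MonoidHom.coe_mk, OneHom.coe_mk, OneMemClass.coe_one] at h
      exact mul_inv_eq_iff_eq_mul.mp (mul_inv_eq_one.mp h)
    · rintro ⟨hxR, hxC⟩
      refine ⟨⟨x, hxR⟩, MonoidHom.mem_ker.mpr (Subtype.ext ?_), rfl⟩
      show x * y * x⁻¹ * y⁻¹ = 1
      rw [Subgroup.mem_centralizer_singleton_iff.mp hxC, mul_inv_cancel_right, mul_inv_cancel]
  have hrel : R.relIndex C = p := by
    refine ((Nat.dvd_prime hp.out).mp (hR ▸ Subgroup.relIndex_dvd_index_of_normal R C)).resolve_left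
      fun h => hy ((Subgroup.relIndex_eq_one.mp h) (Subgroup.mem_centralizer_singleton_iff.mpr rfl))
  have hcard := Subgroup.relIndex_mul_relIndex ⊥ (R ⊓ C) C bot_le inf_le_right
  rw [Subgroup.relIndex_bot_left, Subgroup.relIndex_bot_left, Subgroup.inf_relIndex_right,
    ← hCR, Subgroup.card_map_of_injective R.subtype_injective, hker, hrel] at hcard
  rw [← hcard, pow_two]

end CfsgLib.AbelPSq
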