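import Cfsg.Agent.Lib.AbelPSq.Main

/-!
The minimal normal subgroup.
-/

set_option autoImplicit false
set_option linter.unusedSectionVars false
set_option linter.style.haveILetI false

open scoped commutatorElement

namespace CfsgLib.AbelPSq

variable {G : Type*} [Group G] [Finite G] {p : ℕ} [hp : Fact p.Prime]

/-- `T` is normalised by `N` and lies in it. -/
def NIn (N T : Subgroup G) : Prop := T ≤ N ∧ ∀ n ∈ N, ∀ t ∈ T, n * t * n⁻¹ ∈ T

theorem commute_of_inf_bot {N A B : Subgroup G} (hA : NIn N A) (hB : NIn N B) (h : A ⊓ B = ⊥)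
    {a b : G} (ha : a ∈ A) (hb : b ∈ B) : a * b = b * a := by
  have h1 : a * b * a⁻¹ * b⁻¹ ∈ A ⊓ B := by
    refine ⟨?_, ?_⟩
    · show a * b * a⁻¹ * b⁻¹ ∈ A
      have := mul_mem ha (hA.2 b (hB.1 hb) a⁻¹ (inv_mem ha))
      rwa [show a * b * a⁻¹ * b⁻¹ = a * (b * a⁻¹ * b⁻¹) by group]
    · show a * b * a⁻¹ * b⁻¹ ∈ B
      exact mul_mem (hB.2 a (hA.1 ha) b hb) (inv_mem hb)
  rw [h, Subgroup.mem_bot, ← commutatorElement_def, commutatorElement_eq_one_iff_commute] at h1
  exact h1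

/-- The projection onto a factor. -/
theorem exists_proj (N T : Subgroup G) (hT : NIn N T)
    (hcov : ∀ n ∈ N, ∃ t ∈ T, ∀ u ∈ T, t⁻¹ * n * u = u * (t⁻¹ * n))
    (hz : ∀ t ∈ T, (∀ u ∈ T, t * u = u * t) → t = 1) :
    ∃ π : N →* T, (∀ n : N, (n : G) ∈ T → (π n : G) = n) ∧
      (∀ n : N, (∀ u ∈ T, (n : G) * u = u * n) → π n = 1) ∧
      ∀ n : N, π n = 1 → ∀ u ∈ T, (n : G) * u = u * n := by
  choose f hf hfc using hcov
  have huniq : ∀ n (hn : n ∈ N) t, t ∈ T → (∀ u ∈ T, t⁻¹ * n * u = u * (t⁻¹ * n)) → f n hn = t := by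
    intro n hn t ht htc
    have hc : ∀ u ∈ T, t⁻¹ * f n hn * u = u * (t⁻¹ * f n hn) := by
      intro u hu
      set a := t⁻¹ * n with hadef
      set b := (f n hn)⁻¹ * n with hbdef
      have hb : b⁻¹ * u = u * b⁻¹ := ((show Commute b u from hfc n hn u hu).inv_left).eq
      have e : t⁻¹ * f n hn = a * b⁻¹ := by rw [hadef, hbdef]; group
      rw [e, mul_assoc, hb, ← mul_assoc, htc u hu, mul_assoc]
    exact (inv_mul_eq_one.mp (hz _ (mul_mem (inv_mem ht) (hf n hn)) hc)).symm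
  refine ⟨{ toFun := fun n => ⟨f n n.2, hf n n.2⟩, map_one' := ?_, map_mul' := ?_ }, ?_, ?_, ?_⟩
  · exact Subtype.ext (huniq 1 N.one_mem 1 T.one_mem (fun u _ => by simp))
  · intro n m
    refine Subtype.ext (huniq _ (n * m).2 _ (mul_mem (hf n n.2) (hf m m.2)) fun u hu => ?_)
    set a := f (n : G) n.2
    set b := f (m : G) m.2
    have h1 : ∀ v ∈ T, Commute (a⁻¹ * (n : G)) v := fun v hv => hfc n n.2 v hv
    have h2 : ∀ v ∈ T, Commute (b⁻¹ * (m : G)) v := fun v hv => hfc m m.2 v hv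
    have e : (a * b)⁻¹ * ((n * m : N) : G) = a⁻¹ * (n : G) * (b⁻¹ * (m : G)) := by
      rw [Subgroup.coe_mul]
      calc (a * b)⁻¹ * ((n : G) * m) = b⁻¹ * (a⁻¹ * (n : G)) * m := by group
        _ = a⁻¹ * (n : G) * b⁻¹ * m := by rw [((h1 b (hf _ _)).inv_right).eq]
        _ = _ := by group
    show (a * b)⁻¹ * _ * u = u * ((a * b)⁻¹ * _)
    rw [e]
    exact ((h1 u hu).mul_left (h2 u hu)).eq
  · exact fun n hn => huniq n n.2 n hn (fun u _ => by simp)
  · exact fun n hn => Subtype.ext (huniq n n.2 1 T.one_mem (fun u hu => by simpa using hn u hu))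
  · intro n hn u hu
    have h := hfc n n.2 u hu
    rw [show f (n : G) n.2 = 1 from congrArg Subtype.val hn] at h
    simpa using h

theorem map_inf_sylow_eq {T : Subgroup G} (hT : T.IsSubnormal) (P : Sylow p G) {X : Subgroup G}
    (hX : IsPGroup p X) (hXT : X ≤ T) (hle : (P : Subgroup G) ⊓ T ≤ X) :
    X = (P : Subgroup G) ⊓ T := by
  refine (Subgroup.eq_of_le_of_card_ge hle ?_).symm
  have h1 := CfsgLib.CharCore.not_dvd_relIndex_of_isSubnormal hT P
  rw [← Subgroup.inf_relIndex_right] at h1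
  obtain ⟨k, hk⟩ := IsPGroup.iff_card.mp hX
  obtain ⟨i, -, hi⟩ := (Nat.dvd_prime_pow hp.out).mp
    (hk ▸ (Subgroup.relIndex_dvd_card ((P : Subgroup G) ⊓ T) X))
  have h2 := Subgroup.relIndex_mul_relIndex _ X T hle hXT
  rcases i with _ | i
  · have h3 : X ≤ (P : Subgroup G) ⊓ T := Subgroup.relIndex_eq_one.mp (by rw [hi, pow_zero])
    exact Nat.card_le_card_of_injective _ (Subgroup.inclusion_injective h3)
  · exact absurd (h2 ▸ Dvd.dvd.mul_right (hi ▸ dvd_pow_self p i.succ_ne_zero) _) h1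

/-- A minimal normal subgroup meets `P` in an abelian subgroup of index `p`. -/
theorem abelian_of_minimal (P : Sylow p G) (hd : (commutator ↥(P : Subgroup G)).index = p ^ 2)
    (hna : commutator ↥(P : Subgroup G) ≠ ⊥)
    (hcore : Cfsg.pPrimeCore p G = ⊥)
    (hcore' : (⁅(P : Subgroup G), (P : Subgroup G)⁆).normalCore = ⊥)
    (hnas : ¬ ∃ S : Subgroup G, S.Normal ∧ IsSimpleGroup S ∧ ¬ IsMulCommutative S ∧
      Subgroup.centralizer (S : Set G) = ⊥) :
    ∃ N : Subgroup G, N.Normal ∧ (∀ a ∈ N ⊓ (P : Subgroup G), ∀ b ∈ N ⊓ (P : Subgroup G), a * b = b * a) ∧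
      (N.subgroupOf (P : Subgroup G)).index = p := by
  classical
  set Q := (P : Subgroup G) with hQdef
  have hQ : IsPGroup p Q := P.2
  haveI : Nontrivial G := by
    by_contra h
    rw [not_nontrivial_iff_subsingleton] at h
    exact hna (Subsingleton.elim _ _)
  -- Tate
  have hTate : ∀ M : Subgroup G, M.Normal → M ≠ ⊥ → ¬ M.subgroupOf Q ≤ commutator Q := by
    intro M hM hM0 hle
    haveI := hM
    have hfr : M ⊓ Q ≤ (frattini Q).map Q.subtype := by
      intro x hx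
      exact ⟨⟨x, hx.2⟩, (PSolvable.commutator_le_frattini hQ).1 (hle hx.1), rfl⟩
    obtain ⟨PM, K, hKn, hK⟩ := Cfsg.Agent.S0081.result P M hfr
    have hidx : Nat.card PM = K.index := hK.symm.index_eq_card.symm
    obtain ⟨k, hk⟩ := IsPGroup.iff_card.mp PM.2
    have hKcop : (Nat.card K).Coprime p := by
      refine ((hp.out.coprime_iff_not_dvd).mpr fun h => ?_).symm
      exact PM.not_dvd_index (by rwa [hK.index_eq_card])
    have hchar : ∀ x : M, x ∈ K ↔ ¬ p ∣ orderOf x := by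
      intro x
      constructor
      · intro hx h
        exact (hp.out.coprime_iff_not_dvd.mp hKcop.symm)
          (h.trans (Subgroup.orderOf_dvd_natCard K hx))
      · intro hx
        rw [← QuotientGroup.eq_one_iff (N := K), ← orderOf_eq_one_iff]
        have h1 : orderOf (QuotientGroup.mk x : M ⧸ K) ∣ p ^ k := by
          rw [← hk, hidx, Subgroup.index_eq_card]; exact orderOf_dvd_natCard _
        obtain ⟨i, -, hi⟩ := (Nat.dvd_prime_pow hp.out).mp h1
        rcases i with _ | i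
        · simpa using hi
        · exact absurd ((hi ▸ dvd_pow_self p i.succ_ne_zero : p ∣ orderOf (QuotientGroup.mk x : M ⧸ K)).trans
            (orderOf_map_dvd (QuotientGroup.mk' K) x)) hx
    haveI hKG : (K.map M.subtype).Normal := ⟨by
      rintro _ ⟨x, hx, rfl⟩ g
      refine ⟨⟨g * x * g⁻¹, hM.conj_mem _ x.2 g⟩, ?_, rfl⟩
      refine (hchar _).mpr fun h => (hchar x).mp hx ?_
      rw [← Subgroup.orderOf_coe] at h ⊢
      rwa [← orderOf_injective (MulAut.conj g).toMonoidHom (MulAut.conj g).injective (x : G)]⟩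
    have hK1 : K.map M.subtype ≤ Cfsg.pPrimeCore p G :=
      le_sSup ⟨hKG, by rwa [Subgroup.card_map_of_injective M.subtype_injective]⟩
    rw [hcore, le_bot_iff, Subgroup.map_eq_bot_iff_of_injective _ M.subtype_injective] at hK1
    have hMp : IsPGroup p M := IsPGroup.of_card (n := k) (by
      rw [← hk, hidx, hK1, Subgroup.index_bot])
    have hMQ : M ≤ Q := by
      obtain ⟨P2, hP2⟩ := hMp.exists_le_sylow
      obtain ⟨g, hg⟩ := MulAction.exists_smul_eq G P2 P
      intro x hx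
      show x ∈ (P : Subgroup G)
      rw [← hg, Sylow.coe_subgroup_smul, Subgroup.mem_pointwise_smul_iff_inv_smul_mem]
      refine hP2 ?_
      simpa using hM.conj_mem x hx g⁻¹
    refine hM0 ?_
    rw [eq_bot_iff, ← hcore']
    rw [Subgroup.normal_le_normalCore, ← Subgroup.map_subtype_commutator]
    exact fun x hx => ⟨⟨x, hMQ hx⟩, hle hx, rfl⟩
  have hidxle : ∀ M : Subgroup G, M.Normal → M ≠ ⊥ →
      (M.subgroupOf Q).index ≤ p ∧ commutator Q ≤ M.subgroupOf Q := fun M hM hM0 => by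
    haveI := hM
    exact index_le_of_not_le hQ hd _ (hTate M hM hM0)
  obtain ⟨N, hNn, hN0, hNmin⟩ := CfsgLib.RealOdd.exists_minimal_normal (G := G)
  haveI := hNn
  obtain ⟨hNi, hNc⟩ := hidxle N hNn hN0
  -- uniqueness
  have huniq : ∀ M : Subgroup G, M.Normal → M ≠ ⊥ → N ⊓ M ≠ ⊥ := by
    intro M hM hM0 hinf
    refine hna (eq_bot_iff.mpr ?_)
    intro x hx
    have : (x : G) ∈ N ⊓ M := ⟨hNc hx, (hidxle M hM hM0).2 hx⟩
    rw [hinf, Subgroup.mem_bot] at this
    exact Subgroup.mem_bot.mpr (Subtype.ext this)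
  refine ⟨N, hNn, ?_⟩
  have htopcase : N.subgroupOf Q = ⊤ →
      (∀ a ∈ N ⊓ Q, ∀ b ∈ N ⊓ Q, a * b = b * a) → False := by
    intro htop hab
    refine hna (eq_bot_iff.mpr ?_)
    rw [commutator_def, Subgroup.commutator_le]
    intro a _ b _
    have hm : ∀ c : Q, (c : G) ∈ N ⊓ Q := fun c =>
      ⟨(htop ▸ Subgroup.mem_top c : c ∈ N.subgroupOf Q), c.2⟩
    rw [Subgroup.mem_bot, commutatorElement_eq_one_iff_commute]
    exact Subtype.ext (hab _ (hm a) _ (hm b))
  suffices hab : ∀ a ∈ N ⊓ Q, ∀ b ∈ N ⊓ Q, a * b = b * a by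
    refine ⟨hab, ?_⟩
    obtain ⟨k, hk⟩ := IsPGroup.iff_card.mp hQ
    obtain ⟨i, -, hi⟩ := (Nat.dvd_prime_pow hp.out).mp (hk ▸ (N.subgroupOf Q).index_dvd_card)
    rcases i with _ | _ | i
    · exact absurd hab (htopcase (Subgroup.index_eq_one.mp (by simpa using hi)))
    · rw [hi, zero_add, pow_one]
    · exfalso
      have : p ^ 2 ≤ p ^ (i + 1 + 1) := Nat.pow_le_pow_right hp.out.pos (by omega)
      have := hp.out.two_le
      nlinarith [hi ▸ hNi]
  by_cases hNab : ∀ a ∈ N, ∀ b ∈ N, a * b = b * a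
  · exact fun a ha b hb => hNab a ha.1 b hb.1
  -- `C(N) = 1`
  have hCN : Subgroup.centralizer (N : Set G) = ⊥ := by
    by_contra hC
    rcases hNmin _ inferInstance (inf_le_left : N ⊓ Subgroup.centralizer (N : Set G) ≤ N) with h | h
    · exact huniq _ inferInstance hC h
    · refine hNab fun a ha b hb => ?_
      have h' : N ≤ Subgroup.centralizer (N : Set G) := h.symm.le.trans inf_le_right
      exact (h' ha b hb).symm
  -- a minimal normal subgroup of `N`
  haveI := Fintype.ofFinite (Subgroup G)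
  obtain ⟨S, hSmem, hSmin⟩ := (Finset.univ.filter fun S : Subgroup G => NIn N S ∧ S ≠ ⊥).exists_min_image
    (fun S => Nat.card S) ⟨N, Finset.mem_filter.mpr ⟨Finset.mem_univ _,
      ⟨le_rfl, fun n hn t ht => mul_mem (mul_mem hn ht) (inv_mem hn)⟩, hN0⟩⟩
  obtain ⟨hS, hS0⟩ := (Finset.mem_filter.mp hSmem).2
  have hSN : S ≠ N := by
    rintro rfl
    refine hnas ⟨S, hNn, ?_, ?_, hCN⟩
    · haveI : Nontrivial S := (Subgroup.nontrivial_iff_ne_bot _).mpr hS0
      refine ⟨fun K hK => ?_⟩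
      by_cases hK0 : K = ⊥
      · exact Or.inl hK0
      right
      have hmem : K.map S.subtype ∈
          Finset.univ.filter fun T : Subgroup G => NIn S T ∧ T ≠ ⊥ := by
        refine Finset.mem_filter.mpr ⟨Finset.mem_univ _, ⟨Subgroup.map_subtype_le _, ?_⟩, ?_⟩
        · rintro n hn _ ⟨t, ht, rfl⟩
          exact ⟨⟨n, hn⟩ * t * ⟨n, hn⟩⁻¹, hK.conj_mem t ht _, rfl⟩
        · rwa [Ne, Subgroup.map_eq_bot_iff_of_injective _ S.subtype_injective]
      have h := Subgroup.eq_of_le_of_card_ge (Subgroup.map_subtype_le K) (hSmin _ hmem)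
      refine Subgroup.map_injective S.subtype_injective ?_
      rw [h, ← MonoidHom.range_eq_map, Subgroup.range_subtype]
    · intro hc
      exact hNab fun a ha b hb => congrArg Subtype.val (hc.is_comm.comm ⟨a, ha⟩ ⟨b, hb⟩)
  -- the conjugates
  let cj : G → Subgroup G := fun g => S.map (MulAut.conj g).toMonoidHom
  have hcjmem : ∀ g x, x ∈ cj g ↔ g⁻¹ * x * g ∈ S := by
    intro g x
    constructor
    · rintro ⟨s, hs, rfl⟩
      simpa [mul_assoc] using hs
    · intro h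
      exact ⟨_, h, by simp [mul_assoc]⟩
  have hcj1 : cj 1 = S := by ext x; rw [hcjmem]; simp
  have hcjN : ∀ g, NIn N (cj g) := by
    intro g
    refine ⟨fun x hx => ?_, fun n hn t ht => ?_⟩
    · have := hNn.conj_mem _ (hS.1 ((hcjmem g x).mp hx)) g
      simpa [mul_assoc] using this
    · rw [hcjmem] at ht ⊢
      have := hS.2 _ (hNn.conj_mem n hn g⁻¹) _ ht
      simpa [mul_assoc] using this
  have hcjcard : ∀ g, Nat.card (cj g) = Nat.card S := fun g =>
    Subgroup.card_map_of_injective (MulAut.conj g).injective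
  have hdisj : ∀ g h, cj g ≠ cj h → cj g ⊓ cj h = ⊥ := by
    intro g h hne
    by_contra h0
    have hmem : cj g ⊓ cj h ∈ Finset.univ.filter fun T : Subgroup G => NIn N T ∧ T ≠ ⊥ :=
      Finset.mem_filter.mpr ⟨Finset.mem_univ _, ⟨inf_le_left.trans (hcjN g).1,
        fun n hn t ht => ⟨(hcjN g).2 n hn t ht.1, (hcjN h).2 n hn t ht.2⟩⟩, h0⟩
    have hm := hSmin _ hmem
    apply hne
    have e1 := Subgroup.eq_of_le_of_card_ge (inf_le_left : cj g ⊓ cj h ≤ cj g) ((hcjcard g).le.trans hm)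
    have e2 := Subgroup.eq_of_le_of_card_ge (inf_le_right : cj g ⊓ cj h ≤ cj h) ((hcjcard h).le.trans hm)
    exact e1.symm.trans e2
  have hcomm : ∀ g h, cj g ≠ cj h → ∀ a ∈ cj g, ∀ b ∈ cj h, a * b = b * a := fun g h hne a ha b hb =>
    commute_of_inf_bot (hcjN g) (hcjN h) (hdisj g h hne) ha hb
  have hgen : Subgroup.closure {x | ∃ g, x ∈ cj g} = N := by
    haveI : (Subgroup.closure {x | ∃ g, x ∈ cj g}).Normal := ⟨fun x hx k => by
      induction hx using Subgroup.closure_induction with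
      | mem y hy =>
        obtain ⟨g, hg⟩ := hy
        refine Subgroup.subset_closure ⟨k * g, (hcjmem _ _).mpr ?_⟩
        simpa [mul_assoc] using (hcjmem g y).mp hg
      | one => simp
      | mul a b _ _ iha ihb =>
        have := mul_mem iha ihb
        simpa [mul_assoc] using this
      | inv a _ iha =>
        have := inv_mem iha
        simpa [mul_assoc] using this⟩
    refine (hNmin _ inferInstance ?_).resolve_left ?_
    · rw [Subgroup.closure_le]
      rintro x ⟨g, hg⟩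
      exact (hcjN g).1 hg
    · intro h
      apply hS0
      rw [eq_bot_iff, ← h]
      exact fun x hx => Subgroup.subset_closure ⟨1, hcj1 ▸ hx⟩
  -- each conjugate has trivial centre
  have hSz : ∀ t ∈ S, (∀ u ∈ S, t * u = u * t) → t = 1 := by
    let Z := S ⊓ Subgroup.centralizer (S : Set G)
    have hZn : NIn N Z := by
      refine ⟨inf_le_left.trans hS.1, fun n hn t ht => ⟨hS.2 n hn t ht.1, fun u hu => ?_⟩⟩
      have h := ht.2 (n⁻¹ * u * n) (by simpa using hS.2 n⁻¹ (inv_mem hn) u hu)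
      calc u * (n * t * n⁻¹) = n * ((n⁻¹ * u * n) * t) * n⁻¹ := by group
        _ = n * (t * (n⁻¹ * u * n)) * n⁻¹ := by rw [h]
        _ = n * t * n⁻¹ * u := by group
    intro t ht htc
    by_contra ht1
    have hZ0 : Z ≠ ⊥ := fun h => ht1 (Subgroup.mem_bot.mp (h ▸ ⟨ht, fun u hu => (htc u hu).symm⟩))
    have hZS : Z = S := Subgroup.eq_of_le_of_card_ge inf_le_left
      (hSmin _ (Finset.mem_filter.mpr ⟨Finset.mem_univ _, hZn, hZ0⟩))
    have hSab : ∀ a ∈ S, ∀ b ∈ S, a * b = b * a := fun a ha b hb =>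
      ((hZS ▸ ha : a ∈ Z).2 b hb).symm
    apply hNab
    have hgencomm : ∀ a ∈ {x | ∃ g, x ∈ cj g}, ∀ b ∈ {x | ∃ g, x ∈ cj g}, a * b = b * a := by
      rintro a ⟨g, ha⟩ b ⟨k, hb⟩
      by_cases hgk : cj g = cj k
      · obtain ⟨a', ha', rfl⟩ := ha
        rw [← hgk] at hb
        obtain ⟨b', hb', rfl⟩ := hb
        rw [← map_mul, ← map_mul, hSab a' ha' b' hb']
      · exact hcomm g k hgk a ha b hb
    haveI := Subgroup.isMulCommutative_closure hgencomm
    intro a ha b hb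
    rw [← hgen] at ha hb
    exact congrArg Subtype.val (IsMulCommutative.is_comm.comm
      (⟨a, ha⟩ : Subgroup.closure {x | ∃ g, x ∈ cj g}) ⟨b, hb⟩)
  have hz : ∀ g, ∀ t ∈ cj g, (∀ u ∈ cj g, t * u = u * t) → t = 1 := by
    rintro g _ ⟨t, ht, rfl⟩ htc
    rw [hSz t ht fun u hu => (MulAut.conj g).injective (by
      simpa using htc _ ⟨u, hu, rfl⟩), map_one]
  -- projections
  have hcov : ∀ g, ∀ n ∈ N, ∃ t ∈ cj g, ∀ u ∈ cj g, t⁻¹ * n * u = u * (t⁻¹ * n) := by
    intro g n hn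
    rw [← hgen] at hn
    induction hn using Subgroup.closure_induction with
    | mem y hy =>
      obtain ⟨k, hk⟩ := hy
      by_cases hgk : cj g = cj k
      · exact ⟨y, hgk ▸ hk, fun u _ => by simp⟩
      · exact ⟨1, one_mem _, fun u hu => by simpa using (hcomm g k hgk u hu y hk).symm⟩
    | one => exact ⟨1, one_mem _, fun u _ => by simp⟩
    | mul a b _ _ iha ihb =>
      obtain ⟨s, hs, hsc⟩ := iha
      obtain ⟨t, ht, htc⟩ := ihb
      refine ⟨s * t, mul_mem hs ht, fun u hu => ?_⟩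
      have h1 : Commute (s⁻¹ * a) t := hsc t ht
      have e : (s * t)⁻¹ * (a * b) = s⁻¹ * a * (t⁻¹ * b) := by
        calc (s * t)⁻¹ * (a * b) = t⁻¹ * (s⁻¹ * a) * b := by group
          _ = s⁻¹ * a * t⁻¹ * b := by rw [(h1.inv_right).eq]
          _ = _ := by group
      rw [e]
      exact (Commute.mul_left (hsc u hu : Commute _ u) (htc u hu : Commute _ u)).eq
    | inv a _ iha =>
      obtain ⟨s, hs, hsc⟩ := iha
      refine ⟨s⁻¹, inv_mem hs, fun u hu => ?_⟩
      have hu' : Commute (s⁻¹ * a) u := hsc u hu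
      have hs' : Commute (s⁻¹ * a) s := hsc s hs
      have e : (s⁻¹)⁻¹ * a⁻¹ = (s⁻¹ * a)⁻¹ := by
        calc (s⁻¹)⁻¹ * a⁻¹ = s * (s⁻¹ * a)⁻¹ * s⁻¹ := by group
          _ = (s⁻¹ * a)⁻¹ * s * s⁻¹ := by rw [hs'.inv_left.eq]
          _ = _ := by group
      rw [e]
      exact hu'.inv_left.eq
  choose π hπid hπkill hπc using fun g => exists_proj N (cj g) (hcjN g) (hcov g) (hz g)
  have hπne : ∀ g k, cj g ≠ cj k → ∀ n : N, (n : G) ∈ cj k → π g n = 1 := fun g k hne n hn =>
    hπkill g n fun u hu => (hcomm g k hne u hu n hn).symm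
  have hπinj : ∀ n : N, (∀ g, π g n = 1) → n = 1 := by
    intro n hn
    have : (n : G) ∈ Subgroup.centralizer (N : Set G) := by
      have h1 : (n : G) ∈ Subgroup.centralizer {x | ∃ g, x ∈ cj g} := by
        rintro x ⟨g, hg⟩
        exact (hπc g n (hn g) x hg).symm
      rwa [← Subgroup.centralizer_closure, hgen] at h1
    rw [hCN, Subgroup.mem_bot] at this
    exact Subtype.ext this
  have hsn : ∀ g, (cj g).IsSubnormal := fun g =>
    Subgroup.IsSubnormal.step _ N (hcjN g).1 hNn.isSubnormal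
      ⟨fun t ht n => (hcjN g).2 n n.2 t ht⟩
  let R : Subgroup N := Q.subgroupOf N
  have hR : IsPGroup p R := P.2.comap_of_injective N.subtype N.subtype_injective
  have himg : ∀ g, (R.map (π g)).map (cj g).subtype = Q ⊓ cj g := by
    intro g
    refine map_inf_sylow_eq (hsn g) P ((hR.map _).map _) (Subgroup.map_subtype_le _) ?_
    rintro x ⟨hxQ, hxT⟩
    exact ⟨_, ⟨⟨x, (hcjN g).1 hxT⟩, hxQ, rfl⟩, hπid g ⟨x, (hcjN g).1 hxT⟩ hxT⟩
  have hπQ : ∀ g (n : N), (n : G) ∈ Q → (π g n : G) ∈ Q ⊓ cj g := fun g n hn => by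
    rw [← himg g]
    exact ⟨_, ⟨n, hn, rfl⟩, rfl⟩
  -- a nontrivial intersection
  have hRne : ∀ g, Q ⊓ cj g ≠ ⊥ := by
    intro g h0
    refine hTate N hNn hN0 fun x hx => ?_
    have hall : ∀ k, Q ⊓ cj k = ⊥ := by
      intro k
      by_contra hk
      have hdvd : p ∣ Nat.card (cj k) := by
        obtain ⟨i, hi⟩ := IsPGroup.iff_card.mp (P.2.to_le (inf_le_left : Q ⊓ cj k ≤ Q))
        have hi0 : i ≠ 0 := fun h => hk (Subgroup.eq_bot_of_card_eq _ (by rw [hi, h, pow_zero]))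
        exact (hi ▸ dvd_pow_self p hi0).trans (Subgroup.card_dvd_of_le inf_le_right)
      have h1 := CfsgLib.CharCore.not_dvd_relIndex_of_isSubnormal (hsn g) P
      rw [← Subgroup.inf_relIndex_right] at h1
      change ¬ p ∣ (Q ⊓ cj g).relIndex (cj g) at h1
      rw [h0, Subgroup.relIndex_bot_left, hcjcard g, ← hcjcard k] at h1
      exact h1 hdvd
    have : (⟨(x : G), hx⟩ : N) = 1 := hπinj _ fun k => Subtype.ext (by
      have := hπQ k ⟨x, hx⟩ x.2
      rw [hall k, Subgroup.mem_bot] at this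
      exact this)
    have h1' := congrArg (fun z : N => (z : G)) this
    have hx1 : x = 1 := Subtype.ext h1'
    rw [hx1]; exact one_mem _
  -- it suffices that the intersections are cyclic
  suffices hcyc : ∀ g, IsCyclic ↥(Q ⊓ cj g) by
    intro a ha b hb
    have h : (⟨a, ha.1⟩ : N) * ⟨b, hb.1⟩ * (⟨b, hb.1⟩ * ⟨a, ha.1⟩)⁻¹ = 1 := by
      refine hπinj _ fun g => ?_
      haveI := hcyc g
      haveI := (IsCyclic.isMulCommutative : IsMulCommutative ↥(Q ⊓ cj g))
      have h1 := congrArg Subtype.val (IsMulCommutative.is_comm.comm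
        (⟨_, hπQ g ⟨a, ha.1⟩ ha.2⟩ : ↥(Q ⊓ cj g)) ⟨_, hπQ g ⟨b, hb.1⟩ hb.2⟩)
      have h1' : π g ⟨a, ha.1⟩ * π g ⟨b, hb.1⟩ = π g ⟨b, hb.1⟩ * π g ⟨a, ha.1⟩ := Subtype.ext h1
      rw [map_mul, map_inv, map_mul, map_mul, h1', mul_inv_cancel]
    exact congrArg Subtype.val (mul_inv_eq_one.mp h)
  -- the map to the abelianization of a factor
  have hab : ∀ g, ∃ φ : ↥(Q ⊓ N) →* Abelianization ↥(Q ⊓ cj g),
      (∀ (x : ↥(Q ⊓ N)) (h : (x : G) ∈ cj g), φ x = Abelianization.of ⟨x, x.2.1, h⟩) ∧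
      (∀ (x : ↥(Q ⊓ N)) k, cj g ≠ cj k → (x : G) ∈ cj k → φ x = 1) := by
    intro g
    refine ⟨Abelianization.of.comp
      { toFun := fun x => ⟨π g ⟨x, x.2.2⟩, hπQ g ⟨x, x.2.2⟩ x.2.1⟩
        map_one' := Subtype.ext (show (π g 1 : G) = 1 by rw [map_one]; rfl)
        map_mul' := fun x y => Subtype.ext (by
          show (π g (⟨x, x.2.2⟩ * ⟨y, y.2.2⟩) : G) = _
          rw [map_mul]; rfl) }, fun x h => ?_, fun x k hne hx => ?_⟩
    · refine congrArg Abelianization.of (Subtype.ext ?_)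
      exact hπid g ⟨x, x.2.2⟩ h
    · rw [MonoidHom.comp_apply, ← map_one Abelianization.of]
      refine congrArg Abelianization.of (Subtype.ext ?_)
      exact congrArg (fun z : ↥(cj g) => (z : G)) (hπne g k hne ⟨x, x.2.2⟩ hx)
  choose φ hφid hφne using hab
  have hAcard : ∀ g, Nat.card (Abelianization ↥(Q ⊓ cj g)) = (commutator ↥(Q ⊓ cj g)).index :=
    fun g => (Subgroup.index_eq_card _).symm
  have hAne : ∀ g, p ≤ Nat.card (Abelianization ↥(Q ⊓ cj g)) := by
    intro g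
    have hT : IsPGroup p ↥(Q ⊓ cj g) := P.2.to_le inf_le_left
    obtain ⟨i, hi⟩ := IsPGroup.iff_card.mp hT
    obtain ⟨j, -, hj⟩ := (Nat.dvd_prime_pow hp.out).mp (hi ▸ (commutator ↥(Q ⊓ cj g)).index_dvd_card)
    rw [hAcard g, hj]
    refine Nat.le_self_pow (fun hj0 => hRne g ?_) p
    rw [hj0, pow_zero, Subgroup.index_eq_one] at hj
    have hfr : frattini ↥(Q ⊓ cj g) = ⊤ :=
      eq_top_iff.mpr (hj ▸ (PSolvable.commutator_le_frattini hT).1)
    have h2 : (⊥ : Subgroup ↥(Q ⊓ cj g)) = ⊤ := frattini_nongenerating (by rw [hfr, sup_top_eq])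
    haveI : Subsingleton ↥(Q ⊓ cj g) := Subgroup.subsingleton_iff.mp (subsingleton_of_bot_eq_top h2)
    exact Subgroup.eq_bot_of_subsingleton _
  have hcyc_of : ∀ g, Nat.card (Abelianization ↥(Q ⊓ cj g)) ≤ p → IsCyclic ↥(Q ⊓ cj g) :=
    fun g h => isCyclic_of_index (P.2.to_le inf_le_left) (hAcard g ▸ h)
  obtain ⟨g1, hg1⟩ : ∃ g, cj g ≠ S := by
    by_contra hcon
    push Not at hcon
    apply hSN
    refine le_antisymm hS.1 ?_
    rw [← hgen, Subgroup.closure_le]
    rintro x ⟨g, hg⟩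
    exact hcon g ▸ hg
  by_cases hle : Q ≤ N
  · -- `P ≤ N`
    intro g
    obtain ⟨k, hk⟩ : ∃ k, cj g ≠ cj k := by
      by_cases hgS : cj g = S
      · exact ⟨g1, fun h => hg1 (h.symm.trans hgS)⟩
      · exact ⟨1, hcj1.symm ▸ hgS⟩
    let ι : Q →* ↥(Q ⊓ N) := Subgroup.inclusion (le_inf le_rfl hle)
    let F := ((φ g).comp ι).prod ((φ k).comp ι)
    have hF : Function.Surjective F := by
      rintro ⟨a, b⟩
      obtain ⟨a, rfl⟩ := QuotientGroup.mk_surjective a
      obtain ⟨b, rfl⟩ := QuotientGroup.mk_surjective b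
      refine ⟨⟨(a : G) * b, mul_mem a.2.1 b.2.1⟩, ?_⟩
      have e : ι ⟨(a : G) * b, mul_mem a.2.1 b.2.1⟩
          = ι ⟨a, a.2.1⟩ * ι ⟨b, b.2.1⟩ := Subtype.ext rfl
      have ea := hφid g (ι ⟨a, a.2.1⟩) a.2.2
      have eb := hφid k (ι ⟨b, b.2.1⟩) b.2.2
      have za := hφne k (ι ⟨a, a.2.1⟩) g (Ne.symm hk) a.2.2
      have zb := hφne g (ι ⟨b, b.2.1⟩) k hk b.2.2
      simp only [F, MonoidHom.prod_apply, MonoidHom.comp_apply, e, map_mul, za, zb, one_mul, mul_one]
      rw [ea, eb]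
      rfl
    have hker : commutator Q ≤ F.ker := Abelianization.commutator_subset_ker F
    have hcle := Nat.le_of_dvd (by rw [hd]; exact pow_pos hp.out.pos 2) (Subgroup.index_dvd_of_le hker)
    rw [Subgroup.index_ker, MonoidHom.range_eq_top.mpr hF, Subgroup.card_top, Nat.card_prod,
      hd] at hcle
    refine hcyc_of g ?_
    by_contra hlt
    push Not at hlt
    have := Nat.mul_lt_mul_of_lt_of_le hlt (hAne k) (lt_of_lt_of_le hp.out.pos (hAne k))
    rw [pow_two] at hcle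
    omega
  obtain ⟨y, hyQ, hyN⟩ : ∃ y ∈ Q, y ∉ N := by
    by_contra hcon
    push Not at hcon
    exact hle hcon
  have hNidx : (N.subgroupOf Q).index = p := by
    obtain ⟨k, hk⟩ := IsPGroup.iff_card.mp hQ
    obtain ⟨i, -, hi⟩ := (Nat.dvd_prime_pow hp.out).mp (hk ▸ (N.subgroupOf Q).index_dvd_card)
    rcases i with _ | _ | i
    · have h1 : N.subgroupOf Q = ⊤ := Subgroup.index_eq_one.mp (hi.trans (pow_zero p))
      exact absurd (h1 ▸ Subgroup.mem_top (⟨y, hyQ⟩ : Q) : (⟨y, hyQ⟩ : Q) ∈ N.subgroupOf Q) hyN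
    · rw [hi, zero_add, pow_one]
    · exfalso
      have : p ^ 2 ≤ p ^ (i + 1 + 1) := Nat.pow_le_pow_right hp.out.pos (by omega)
      have := hp.out.two_le
      nlinarith [hi ▸ hNi]
  have hypow : y ^ p ∈ N := by
    haveI : (N.subgroupOf Q).Normal := inferInstance
    have := Subgroup.pow_index_mem (N.subgroupOf Q) (⟨y, hyQ⟩ : Q)
    rw [hNidx] at this
    exact this
  have hshift : ∀ g k, cj (k * g) = (cj g).map (MulAut.conj k).toMonoidHom := fun g k => by
    ext x
    rw [hcjmem]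
    constructor
    · intro h
      refine ⟨k⁻¹ * x * k, (hcjmem _ _).mpr ?_, by simp [mul_assoc]⟩
      simpa [mul_assoc] using h
    · rintro ⟨u, hu, rfl⟩
      simpa [mul_assoc] using (hcjmem g u).mp hu
  have hfixN : ∀ g, ∀ n ∈ N, cj (n * g) = cj g := fun g n hn => by
    refine Subgroup.eq_of_le_of_card_ge ?_ (by rw [hcjcard, hcjcard])
    rw [hshift]
    rintro _ ⟨u, hu, rfl⟩
    exact (hcjN g).2 n hn u hu
  -- a moved factor
  obtain ⟨g0, hg0⟩ : ∃ g, cj (y * g) ≠ cj g := by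
    by_contra hcon
    push Not at hcon
    have hQfix : ∀ g, ∀ x ∈ Q, cj (x * g) = cj g := by
      intro g x hx
      haveI : Fact (Nat.card (↥Q ⧸ N.subgroupOf Q)).Prime :=
        ⟨by rw [← Subgroup.index_eq_card, hNidx]; exact hp.out⟩
      have hz : (QuotientGroup.mk (⟨x, hx⟩ : Q) : ↥Q ⧸ N.subgroupOf Q) ∈
          Submonoid.powers (QuotientGroup.mk (⟨y, hyQ⟩ : Q) : ↥Q ⧸ N.subgroupOf Q) := by
        rw [mem_powers_iff_mem_zpowers,
          zpowers_eq_top_of_prime_card (p := Nat.card (↥Q ⧸ N.subgroupOf Q)) rfl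
            (by rw [Ne, QuotientGroup.eq_one_iff]; exact hyN)]
        trivial
      obtain ⟨i, hi⟩ := hz
      have hn : (y ^ i)⁻¹ * x ∈ N := by
        have := QuotientGroup.eq.mp ((QuotientGroup.mk_pow _ (⟨y, hyQ⟩ : Q) i).trans hi)
        simpa [Subgroup.mem_subgroupOf] using this
      have hyi : ∀ (j : ℕ) h, cj (y ^ j * h) = cj h := by
        intro j
        induction j with
        | zero => intro h; simp
        | succ j ih => intro h; rw [pow_succ', mul_assoc, hcon, ih]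
      rw [show x * g = y ^ i * ((y ^ i)⁻¹ * x * g) by group, hyi, hfixN g _ hn]
    have hleP : ∀ g, (cj g).subgroupOf Q ≤ commutator Q := by
      intro g
      by_contra hnot
      haveI : ((cj g).subgroupOf Q).Normal := ⟨fun u hu x => by
        show (x : G) * u * (x : G)⁻¹ ∈ cj g
        rw [← hQfix g x x.2, hshift]
        exact ⟨u, hu, rfl⟩⟩
      obtain ⟨hi, -⟩ := index_le_of_not_le hQ hd _ hnot
      have he : (cj g).subgroupOf Q = N.subgroupOf Q := by
        have hsub : (cj g).subgroupOf Q ≤ N.subgroupOf Q := fun u hu => (hcjN g).1 hu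
        refine le_antisymm hsub ?_
        have h2 := Subgroup.relIndex_mul_index hsub
        rw [hNidx] at h2
        rw [← h2] at hi
        refine Subgroup.relIndex_eq_one.mp (le_antisymm ?_ (Nat.pos_of_ne_zero Subgroup.index_ne_zero_of_finite))
        exact Nat.le_of_mul_le_mul_right (by rwa [one_mul]) hp.out.pos
      obtain ⟨k, hk⟩ : ∃ k, cj g ≠ cj k := by
        by_cases hgS : cj g = S
        · exact ⟨g1, fun h => hg1 (h.symm.trans hgS)⟩
        · exact ⟨1, hcj1.symm ▸ hgS⟩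
      refine hRne k (eq_bot_iff.mpr fun u hu => ?_)
      have h1 : (⟨u, hu.1⟩ : Q) ∈ (cj g).subgroupOf Q := he ▸ (hcjN k).1 hu.2
      have h2 : u ∈ cj g ⊓ cj k := ⟨h1, hu.2⟩
      rwa [hdisj g k hk] at h2
    refine hTate N hNn hN0 fun x hx => ?_
    have hind : ∀ s : Finset G, ∃ j : Q, j ∈ commutator Q ∧ ∃ hm : (j : G) ∈ N,
        ∀ g ∈ s, π g ⟨x, hx⟩ = π g ⟨j, hm⟩ := by
      intro s
      induction s using Finset.induction with
      | empty => exact ⟨1, one_mem _, one_mem N, by simp⟩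
      | insert g s _ ih =>
        obtain ⟨j, hj, hjN, hs⟩ := ih
        let t : ↥(cj g) := (π g ⟨j, hjN⟩)⁻¹ * π g ⟨x, hx⟩
        have htQ : (t : G) ∈ Q := mul_mem (inv_mem (hπQ g ⟨j, hjN⟩ j.2).1) (hπQ g ⟨x, hx⟩ x.2).1
        refine ⟨j * ⟨t, htQ⟩, mul_mem hj (hleP g (show (⟨t, htQ⟩ : Q) ∈ (cj g).subgroupOf Q from t.2)),
          mul_mem hjN ((hcjN g).1 t.2), fun k hk => ?_⟩
        have e : (⟨((j * ⟨t, htQ⟩ : Q) : G), mul_mem hjN ((hcjN g).1 t.2)⟩ : N)
            = ⟨j, hjN⟩ * ⟨t, (hcjN g).1 t.2⟩ := rfl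
        rw [e, map_mul]
        by_cases hkg : cj k = cj g
        · have h1 : ∀ n : N, (π k n : G) = π g n := by
            intro n
            have hd1 : ((π k n : G))⁻¹ * π g n ∈ cj k := mul_mem (inv_mem (π k n).2) (hkg.symm ▸ (π g n).2)
            have c1 : ∀ u ∈ cj k, ((π k n : G))⁻¹ * n * u = u * (((π k n : G))⁻¹ * n) := by
              intro u hu
              have := hπc k (⟨(π k n : G), (hcjN k).1 (π k n).2⟩⁻¹ * n) (by
                rw [map_mul, map_inv]
                exact inv_mul_eq_one.mpr (Subtype.ext (hπid k ⟨_, (hcjN k).1 (π k n).2⟩ (π k n).2))) u hu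
              exact this
            have c2 : ∀ u ∈ cj g, ((π g n : G))⁻¹ * n * u = u * (((π g n : G))⁻¹ * n) := by
              intro u hu
              have := hπc g (⟨(π g n : G), (hcjN g).1 (π g n).2⟩⁻¹ * n) (by
                rw [map_mul, map_inv]
                exact inv_mul_eq_one.mpr (Subtype.ext (hπid g ⟨_, (hcjN g).1 (π g n).2⟩ (π g n).2))) u hu
              exact this
            have h3 := hz k _ hd1 fun u hu => by
              have a1 : Commute ((π k n : G)⁻¹ * n) u := c1 u hu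
              have a2 : Commute ((π g n : G)⁻¹ * n) u := c2 u (hkg ▸ hu)
              have := (a1.mul_left a2.inv_left).eq
              rwa [show (π k n : G)⁻¹ * n * ((π g n : G)⁻¹ * n)⁻¹ = (π k n : G)⁻¹ * π g n by group] at this
            exact inv_mul_eq_one.mp h3
          apply Subtype.ext
          rw [Subgroup.coe_mul, h1, h1, h1, hπid g ⟨t, (hcjN g).1 t.2⟩ t.2]
          show (π g ⟨x, hx⟩ : G) = (π g ⟨j, hjN⟩ : G) * (((π g ⟨j, hjN⟩ : G))⁻¹ * π g ⟨x, hx⟩)
          group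
        · rw [hπne k g hkg ⟨t, (hcjN g).1 t.2⟩ t.2, mul_one]
          refine hs k ((Finset.mem_insert.mp hk).resolve_left fun h => hkg (h ▸ rfl))
    haveI := Fintype.ofFinite G
    obtain ⟨j, hj, hjN, hall⟩ := hind Finset.univ
    have := hπinj (⟨x, hx⟩ * ⟨j, hjN⟩⁻¹) fun g => by
      rw [map_mul, map_inv, hall g (Finset.mem_univ g), mul_inv_cancel]
    have h1' := congrArg (fun z : N => (z : G)) (mul_inv_eq_one.mp this)
    have hxj : x = j := Subtype.ext h1'
    rwa [hxj]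
  -- its orbit has length `p`
  have horb : ∀ j : ℕ, 0 < j → j < p → cj (y ^ j * g0) ≠ cj g0 := by
    intro j hj0 hjp he
    apply hg0
    obtain ⟨u, hu⟩ := Nat.exists_mul_mod_eq_one_of_coprime
      ((hp.out.coprime_iff_not_dvd.mpr (Nat.not_dvd_of_pos_of_lt hj0 hjp)).symm) hp.out.one_lt
    have hmult : ∀ i : ℕ, cj (y ^ (j * i) * g0) = cj g0 := by
      intro i
      induction i with
      | zero => simp
      | succ i ih => rw [Nat.mul_succ, add_comm, pow_add, mul_assoc, hshift, ih, ← hshift, he]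
    have hpm : ∀ i : ℕ, cj (y ^ (p * i) * (y * g0)) = cj (y * g0) := fun i => by
      rw [pow_mul]; exact hfixN _ _ (pow_mem hypow i)
    have hb := hmult u
    have hsplit : j * u = p * (j * u / p) + 1 := by
      have := Nat.div_add_mod (j * u) p; omega
    rw [hsplit, pow_add, pow_one, mul_assoc, hpm] at hb
    exact hb
  -- the map `f`
  let R0 : Subgroup Q := N.subgroupOf Q
  have hR0mem : ∀ (r : R0) (j : ℕ), y ^ j * ((r : Q) : G) * (y ^ j)⁻¹ ∈ Q ⊓ N := fun r j =>
    ⟨(show y ^ j * ((r : Q) : G) * (y ^ j)⁻¹ ∈ Q from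
        mul_mem (mul_mem (pow_mem hyQ j) (r : Q).2) (inv_mem (pow_mem hyQ j))),
      hNn.conj_mem _ r.2 _⟩
  let tw : ℕ → R0 →* ↥(Q ⊓ N) := fun j =>
    { toFun := fun r => ⟨_, hR0mem r j⟩
      map_one' := Subtype.ext (by simp)
      map_mul' := fun r s => Subtype.ext (by simp [mul_assoc]) }
  let f : R0 →* Abelianization ↥(Q ⊓ cj g0) :=
    { toFun := fun r => ∏ j ∈ Finset.range p, φ g0 (tw j r)
      map_one' := by simp
      map_mul' := fun r s => by simp [Finset.prod_mul_distrib] }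
  have hrot : ∀ r : R0, ∀ h : (⟨y, hyQ⟩ : Q) * (r : Q) * (⟨y, hyQ⟩ : Q)⁻¹ ∈ R0, f ⟨_, h⟩ = f r := by
    intro r h
    show ∏ j ∈ Finset.range p, φ g0 (tw j ⟨_, h⟩) = ∏ j ∈ Finset.range p, φ g0 (tw j r)
    have e : ∀ j, tw j (⟨_, h⟩ : R0) = tw (j + 1) r := fun j => Subtype.ext (by
      show y ^ j * (y * ((r : Q) : G) * y⁻¹) * (y ^ j)⁻¹ = y ^ (j + 1) * _ * (y ^ (j + 1))⁻¹
      rw [pow_succ]; group)
    have elast : φ g0 (tw p r) = φ g0 (tw 0 r) := by
      have : tw p r = ⟨y ^ p, pow_mem hyQ p, hypow⟩ * tw 0 r * ⟨y ^ p, pow_mem hyQ p, hypow⟩⁻¹ :=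
        Subtype.ext (by simp [tw])
      rw [this, map_mul, map_mul, map_inv, mul_comm, inv_mul_cancel_left]
    rw [Finset.prod_congr rfl fun j _ => by rw [e j]]
    have h1 := Finset.prod_range_succ' (fun j => φ g0 (tw j r)) p
    rw [Finset.prod_range_succ, elast] at h1
    exact (mul_right_cancel h1).symm
  have hsurj : Function.Surjective f := by
    intro a
    obtain ⟨t, rfl⟩ := QuotientGroup.mk_surjective a
    let r : R0 := ⟨⟨t, t.2.1⟩, (hcjN g0).1 t.2.2⟩
    refine ⟨r, ?_⟩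
    show ∏ j ∈ Finset.range p, φ g0 (tw j r) = _
    rw [Finset.prod_eq_single_of_mem 0 (Finset.mem_range.mpr hp.out.pos) fun j hj hj0 => ?_]
    · have h0 : tw 0 r = ⟨(t : G), t.2.1, (hcjN g0).1 t.2.2⟩ := Subtype.ext (by simp [tw, r])
      rw [h0, hφid g0 _ t.2.2]
      exact congrArg _ (Subtype.ext (by simp [tw, r]))
    · refine hφne g0 (tw j r) (y ^ j * g0)
        (horb j (Nat.pos_of_ne_zero hj0) (Finset.mem_range.mp hj)).symm ?_
      rw [hshift]
      exact ⟨t, t.2.2, rfl⟩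
  have hkle : commutator Q ≤ f.ker.map R0.subtype := by
    have hR0 : R0.Normal := inferInstance
    refine commutator_le_of_index (p := p) R0 _ hNidx (y := (⟨y, hyQ⟩ : Q)) hyN (Subgroup.map_subtype_le _)
      ?_ ?_ ?_
    · intro a ha b hb
      refine ⟨⟨a, ha⟩ * ⟨b, hb⟩ * ⟨a, ha⟩⁻¹ * ⟨b, hb⟩⁻¹, MonoidHom.mem_ker.mpr ?_, rfl⟩
      simp only [map_mul, map_inv]
      rw [mul_comm (f _) (f _), mul_inv_cancel_right, mul_inv_cancel]
    · intro a ha
      have hm : (⟨y, hyQ⟩ : Q) * a⁻¹ * (⟨y, hyQ⟩ : Q)⁻¹ ∈ R0 := hR0.conj_mem _ (inv_mem ha) _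
      refine ⟨⟨a, ha⟩ * ⟨_, hm⟩, MonoidHom.mem_ker.mpr ?_, by simp [mul_assoc]⟩
      rw [map_mul, hrot ⟨a⁻¹, inv_mem ha⟩ hm,
        show (⟨a⁻¹, inv_mem ha⟩ : R0) = ⟨a, ha⟩⁻¹ from rfl, map_inv, mul_inv_cancel]
    · rintro _ ⟨m, hm, rfl⟩
      exact ⟨⟨_, hR0.conj_mem _ m.2 _⟩, MonoidHom.mem_ker.mpr ((hrot m _).trans hm), rfl⟩
  have hA0 : Nat.card (Abelianization ↥(Q ⊓ cj g0)) ≤ p := by
    have h1 := Subgroup.card_mul_index f.ker
    rw [Subgroup.index_ker, MonoidHom.range_eq_top.mpr hsurj, Subgroup.card_top] at h1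
    have h2 := Nat.le_of_dvd Nat.card_pos (Subgroup.card_dvd_of_le hkle)
    rw [Subgroup.card_map_of_injective R0.subtype_injective] at h2
    have h3 := Subgroup.card_mul_index (commutator Q)
    have h4 := Subgroup.card_mul_index R0
    rw [hNidx] at h4
    rw [hd, ← h4, ← h1] at h3
    set A := Nat.card (Abelianization ↥(Q ⊓ cj g0))
    set C := Nat.card (commutator Q)
    set K := Nat.card f.ker
    have hKpos : 0 < K := Nat.card_pos
    have h5 : C * p = K * A := Nat.eq_of_mul_eq_mul_right hp.out.pos (by rw [← h3]; ring)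
    by_contra hlt
    push Not at hlt
    have : K * p < K * A := Nat.mul_lt_mul_of_pos_left hlt hKpos
    have : C * p ≤ K * p := Nat.mul_le_mul_right _ h2
    omega
  haveI := hcyc_of g0 hA0
  -- transport to every factor
  intro g
  let k := g * g0⁻¹
  have hk : cj g = (cj g0).map (MulAut.conj k).toMonoidHom := by
    rw [← hshift]; simp [k]
  have hPk : IsPGroup p ↥(Q ⊓ cj g) := P.2.to_le inf_le_left
  -- pull `P ∩ T` back into a Sylow subgroup of `cj g0`
  set X := (Q ⊓ cj g).map (MulAut.conj k⁻¹).toMonoidHom with hX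
  have hXT : X ≤ cj g0 := by
    rintro _ ⟨u, hu, rfl⟩
    obtain ⟨v, hv, rfl⟩ := (hk ▸ hu.2 : u ∈ (cj g0).map (MulAut.conj k).toMonoidHom)
    simpa [mul_assoc] using hv
  obtain ⟨P2, hP2⟩ := (hPk.map (MulAut.conj k⁻¹).toMonoidHom).exists_le_sylow
  have hcycX : IsCyclic X := by
    have hSyl : ∀ P2 : Sylow p G, IsCyclic ↥((P2 : Subgroup G) ⊓ cj g0) := by
      intro P2
      let A : Sylow p ↥(cj g0) := (P.2.comap_of_injective (cj g0).subtype (cj g0).subtype_injective).toSylow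
        (CfsgLib.CharCore.not_dvd_relIndex_of_isSubnormal (hsn g0) P)
      let B : Sylow p ↥(cj g0) := (P2.2.comap_of_injective (cj g0).subtype (cj g0).subtype_injective).toSylow
        (CfsgLib.CharCore.not_dvd_relIndex_of_isSubnormal (hsn g0) P2)
      haveI : IsCyclic A := by
        let e := (Subgroup.equivMapOfInjective (A : Subgroup ↥(cj g0)) (cj g0).subtype
          (cj g0).subtype_injective).trans (MulEquiv.subgroupCongr
            (show (A : Subgroup ↥(cj g0)).map (cj g0).subtype = Q ⊓ cj g0 from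
              Subgroup.subgroupOf_map_subtype _ _))
        exact isCyclic_of_surjective e.symm e.symm.surjective
      haveI : IsCyclic B := isCyclic_of_surjective (A.equiv B) (A.equiv B).surjective
      let e := (Subgroup.equivMapOfInjective (B : Subgroup ↥(cj g0)) (cj g0).subtype
          (cj g0).subtype_injective).trans (MulEquiv.subgroupCongr
            (show (B : Subgroup ↥(cj g0)).map (cj g0).subtype = (P2 : Subgroup G) ⊓ cj g0 from
              Subgroup.subgroupOf_map_subtype _ _))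
      exact isCyclic_of_surjective e e.surjective
    haveI := hSyl P2
    exact Subgroup.isCyclic_of_le (le_inf hP2 hXT)
  let e := Subgroup.equivMapOfInjective (Q ⊓ cj g) (MulAut.conj k⁻¹).toMonoidHom (MulAut.conj k⁻¹).injective
  exact isCyclic_of_surjective e.symm e.symm.surjective

end CfsgLib.AbelPSq
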